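import Groth.Agent.BigCellLib.Commute
import Groth.Agent.BigCellLib.Torus
import Groth.Agent.AlbLib.Torus
import Groth.Agent.BorelFixLib.Basic
import Groth.Agent.MonoFibLib.MultTypeLft
import Groth.Agent.UnrStalkLib.FieldScheme
import Groth.Agent.MultEqLib.Props

/-!
# A discrete subscheme of `T ⋉ 𝔾ₐ` stable under conjugation and meeting `T` trivially is trivial
-/

set_option autoImplicit false
universe u

open CategoryTheory CategoryTheory.Limits MonoidalCategory CartesianMonoidalCategory AlgebraicGeometry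
open Groth.Agent.GaPts
open Groth.Agent.RankOne (eq_ptOf comp_ptOf)
open Groth.Agent.BigCell (av' rt)
open scoped MonObj

noncomputable section

namespace Groth.Agent.SemiDirKer

variable {K : Type u} [Field K] [IsAlgClosed K]

local notation "Sk" => Spec (CommRingCat.of K)

variable {T P N : Over (Spec (CommRingCat.of K))} [GrpObj T] [GrpObj P]

/-- A morphism from a connected scheme to a discrete one is constant on rational points. -/
theorem comp_eq_comp {A : Over Sk} [ConnectedSpace A.left] [DiscreteTopology N.left] [LocallyOfFiniteType N.hom]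
    (c : A ⟶ N) (a b : 𝟙_ (Over Sk) ⟶ A) : a ≫ c = b ≫ c := by
  refine BorelFix.pt_ext (a ≫ c) (b ≫ c) ?_
  show c.left (a.left _) = c.left (b.left _)
  exact PreconnectedSpace.constant inferInstance c.left.continuous

/-- Rational points of the subscheme commute with connected groups. -/
theorem conj_pt_eq {A : Over Sk} [GrpObj A] [ConnectedSpace A.left] [DiscreteTopology N.left]
    [LocallyOfFiniteType N.hom] (n : N ⟶ P)
    (hst : ∀ (X : Over Sk) (g : X ⟶ P) (h : X ⟶ N), ∃ h' : X ⟶ N, g * (h ≫ n) * g⁻¹ = h' ≫ n)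
    (j : A ⟶ P) [IsMonHom j] (m : 𝟙_ (Over Sk) ⟶ N) (a : 𝟙_ (Over Sk) ⟶ A) :
    (a ≫ j) * (m ≫ n) * (a ≫ j)⁻¹ = m ≫ n := by
  obtain ⟨c, hc⟩ := hst A j (toUnit A ≫ m)
  have he : ∀ x : 𝟙_ (Over Sk) ⟶ A, (x ≫ c) ≫ n = (x ≫ j) * (m ≫ n) * (x ≫ j)⁻¹ := fun x => by
    rw [Category.assoc, ← hc, MonObj.comp_mul, MonObj.comp_mul, GrpObj.comp_inv, ← Category.assoc, ← Category.assoc,
      toUnit_unique (x ≫ toUnit A) (𝟙 _), Category.id_comp]
  rw [← he, comp_eq_comp c a 1, he, MonObj.one_comp, _root_.one_mul, inv_one, _root_.mul_one]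

theorem eq_of_iso {jT : T ⟶ P} {jU : Red.Ga Sk ⟶ P} (hiso : IsIso ((jT ⊗ₘ jU) ≫ μ[P])) {X : Over Sk}
    {t t' : X ⟶ T} {x x' : X ⟶ Red.Ga Sk} (h : (t ≫ jT) * (x ≫ jU) = (t' ≫ jT) * (x' ≫ jU)) : t = t' ∧ x = x' := by
  have hl : ∀ (t : X ⟶ T) (x : X ⟶ Red.Ga Sk), lift t x ≫ (jT ⊗ₘ jU) ≫ μ[P] = (t ≫ jT) * (x ≫ jU) := fun t x => by
    rw [lift_map_assoc, Hom.mul_def]
  rw [← hl, ← hl, cancel_mono] at h
  exact ⟨by simpa using congrArg (· ≫ fst T _) h, by simpa using congrArg (· ≫ snd T _) h⟩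

/-- The main computation: a rational point of the subscheme is the unit. -/
theorem pt_eq_one (hT : Red.IsTorus T) (α : T ⟶ Red.Gm Sk) [IsMonHom α] (hα : α ≠ 1)
    (jT : T ⟶ P) [IsMonHom jT] (jU : Red.Ga Sk ⟶ P) [IsMonHom jU] (hiso : IsIso ((jT ⊗ₘ jU) ≫ μ[P]))
    (hconj : ∀ (X : Over Sk) (t : X ⟶ T) (x x' : X ⟶ Red.Ga Sk), Red.gaFn x' = Red.gmFn (t ≫ α) * Red.gaFn x →
      (t ≫ jT) * (x ≫ jU) * (t ≫ jT)⁻¹ = x' ≫ jU)
    (n : N ⟶ P) [DiscreteTopology N.left] [LocallyOfFiniteType N.hom]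
    (hst : ∀ (X : Over Sk) (g : X ⟶ P) (h : X ⟶ N), ∃ h' : X ⟶ N, g * (h ≫ n) * g⁻¹ = h' ≫ n)
    (hNT : ∀ (t : 𝟙_ (Over Sk) ⟶ T) (m : 𝟙_ (Over Sk) ⟶ N), t ≫ jT = m ≫ n → t = 1)
    (m : 𝟙_ (Over Sk) ⟶ N) : m ≫ n = 1 := by
  haveI := hiso
  haveI := BigCell.connectedSpace_Ga K
  haveI : LocallyOfFiniteType T.hom := MonoFib.lft_of_isMultTypeFT (by
    obtain ⟨S', p, h1, h2, h3, hloc⟩ := hT
    refine ⟨S', p, h1, h2, h3, fun z => ?_⟩
    obtain ⟨U, hU, r, h⟩ := hloc z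
    exact ⟨U, hU, Fin r → ℤ, inferInstance, Module.Finite.iff_addGroup_fg.1 inferInstance, h⟩)
  obtain ⟨hsm, hcT⟩ := AlbLib.smooth_connected_of_isTorus hT
  haveI := hsm
  haveI := hcT
  have hV : ∀ (X : Over Sk) (t : X ⟶ T) (c : Γ(X.left, ⊤)),
      (t ≫ jT) * rt jU c * (t ≫ jT)⁻¹ = rt jU ((av' α t : Γ(X.left, ⊤)) * c) := fun X t c =>
    hconj X t _ _ (by rw [gaFn_ptOf, gaFn_ptOf]; rfl)
  -- coordinates
  let q := (m ≫ n) ≫ inv ((jT ⊗ₘ jU) ≫ μ[P])
  let t := q ≫ fst _ _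
  let x := Red.gaFn (q ≫ snd _ _)
  have hm : m ≫ n = (t ≫ jT) * rt jU x := by
    have e : q = lift t (q ≫ snd _ _) := by ext <;> simp [t]
    rw [← BigCell.rt_eq jU (q ≫ snd _ _) rfl, Hom.mul_def, ← lift_map_assoc, ← e]
    simp [q]
  -- commutation with the unipotent part
  have h1 : (av' α t : Γ((𝟙_ (Over Sk)).left, ⊤)) = 1 := by
    have e := conj_pt_eq n hst jU m (ptOf 1)
    rw [hm, mul_inv_eq_iff_eq_mul] at e
    have e2 : rt jU (av' α t : Γ((𝟙_ (Over Sk)).left, ⊤)) = rt jU 1 := by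
      rw [← _root_.mul_one (av' α t : Γ((𝟙_ (Over Sk)).left, ⊤)), ← hV, mul_inv_eq_iff_eq_mul]
      refine mul_right_cancel (b := rt jU x) ?_
      rw [_root_.mul_assoc _ (rt jU 1), ← BigCell.rt_add, add_comm, BigCell.rt_add, ← _root_.mul_assoc,
        _root_.mul_assoc (rt jU 1) (t ≫ jT)]
      exact e.symm
    have e3 := congrArg (fun v => Red.gaFn v) (eq_of_iso hiso (t := (1 : _ ⟶ T)) (t' := 1)
      (x := ptOf (av' α t : Γ((𝟙_ (Over Sk)).left, ⊤))) (x' := ptOf 1) (congrArg _ e2)).2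
    simpa only [gaFn_ptOf] using e3
  -- commutation with the torus
  have h2 : x = 0 := by
    by_contra hx
    refine hα ?_
    haveI : GeometricallyReduced T.hom := AbSchLib.geometricallyReduced_of_smooth T.hom
    haveI : IsSeparated (Red.Gm Sk).hom := by
      haveI : IsAffineHom (Red.Gm Sk).hom := MultEq.isAffineHom_DS _ _
      infer_instance
    refine BorelFix.hom_ext_pts α 1 fun s => ?_
    rw [MonObj.comp_one]
    refine (GmPts.equiv _).injective ?_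
    rw [map_one]
    show GmPts.unitOfPt (s ≫ α) = 1
    have e := conj_pt_eq n hst jT m s
    have hts : (s ≫ jT) * (t ≫ jT) = (t ≫ jT) * (s ≫ jT) := by
      rw [← MonObj.mul_comp, ← MonObj.mul_comp, BigCell.torus_comm hT]
    rw [hm, show (s ≫ jT) * ((t ≫ jT) * rt jU x) * (s ≫ jT)⁻¹ =
      ((s ≫ jT) * (t ≫ jT)) * rt jU x * (s ≫ jT)⁻¹ by group, hts,
      show (t ≫ jT) * (s ≫ jT) * rt jU x * (s ≫ jT)⁻¹ = (t ≫ jT) * ((s ≫ jT) * rt jU x * (s ≫ jT)⁻¹) by group,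
      hV, mul_right_inj] at e
    have e3 := congrArg (fun v => Red.gaFn v) (eq_of_iso hiso (t := (1 : _ ⟶ T)) (t' := 1)
      (x := ptOf ((av' α s : Γ((𝟙_ (Over Sk)).left, ⊤)) * x)) (x' := ptOf x) (congrArg _ e)).2
    simp only [gaFn_ptOf] at e3
    have hu : IsUnit x := by
      let eK : Γ((𝟙_ (Over Sk)).left, ⊤) ≃+* K := (Scheme.ΓSpecIso (CommRingCat.of K)).commRingCatIsoToRingEquiv
      rw [← eK.symm_apply_apply x]
      exact (IsUnit.mk0 _ fun h => hx (eK.injective (h.trans (map_zero eK).symm))).map eK.symm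
    exact Units.ext (hu.mul_eq_right.1 e3)
  rw [h2, BigCell.rt_zero, _root_.mul_one] at hm
  rw [hm, hNT t m hm.symm, MonObj.one_comp]

/-- A discrete unramified subscheme with only one rational point is the base. -/
theorem isIso_hom [FormallyUnramified N.hom] [LocallyOfFiniteType N.hom] (e : 𝟙_ (Over Sk) ⟶ N)
    (he : ∀ m : 𝟙_ (Over Sk) ⟶ N, m = e) : IsIso N.hom := by
  obtain ⟨-, hd⟩ := (UnrStalkLib.formallyUnramified_field_iff (p := N.hom)).1 inferInstance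
  have h1 : e.left ≫ N.hom = 𝟙 _ := Over.w e
  haveI : Etale (e.left ≫ N.hom) := by rw [h1]; infer_instance
  haveI : Etale e.left := Etale.of_comp e.left N.hom
  haveI : Mono (e.left ≫ N.hom) := by rw [h1]; infer_instance
  haveI : Mono e.left := mono_of_mono e.left N.hom
  haveI : IsOpenImmersion e.left := IsOpenImmersion.of_flat_of_mono e.left
  haveI : Surjective e.left := ⟨fun y => ⟨IsLocalRing.closedPoint K, by
    let m : 𝟙_ (Over Sk) ⟶ N := Over.homMk (pointOfClosedPoint N.hom y (isClosed_discrete _))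
      (pointOfClosedPoint_comp _ _ _)
    rw [← he m]
    exact pointOfClosedPoint_apply _ _ _ _⟩⟩
  haveI : IsIso e.left := (isIso_iff_isOpenImmersion_and_surjective e.left).2 ⟨inferInstance, inferInstance⟩
  haveI : IsIso (e.left ≫ N.hom) := by rw [h1]; infer_instance
  exact IsIso.of_isIso_comp_left e.left N.hom

end Groth.Agent.SemiDirKer
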