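import Groth.Agent.SemiDirKerLib.Basic
import Groth.Agent.MonoLocusLib.Global
import Groth.Agent.MonoFibLib.Crit
import Groth.Agent.RichLib.UnramifiedLocus
import Groth.Agent.AlgSpLib.UnrLocusBC
import Groth.Agent.RedRankLib.CommRel
import Groth.Agent.MaxTorConjLib.Geom

/-!
# The kernel of a homomorphism from `T ⋉ 𝔾ₐ` is trivial near a trivial fibre
-/

set_option autoImplicit false
set_option maxHeartbeats 1000000
universe u

open CategoryTheory CategoryTheory.Limits MonoidalCategory CartesianMonoidalCategory AlgebraicGeometry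
open Groth.Agent.GaPts
open Groth.Agent.RankOne (eq_ptOf comp_ptOf)
open Groth.Agent.BigCell (av' rt)
open Groth.Agent.HomRep (bcEquiv bcEquiv_mul bcEquiv_symm_mul)
open Groth.Agent.MonoLocus (kob kin)
open scoped MonObj

noncomputable section

namespace Groth.Agent.SemiDirKer

variable {S : Scheme.{u}} {G T P : Over S} [GrpObj G] [GrpObj P]

/-- The unit of the kernel. -/
def kone (f : P ⟶ G) [IsMonHom f] : 𝟙_ (Over S) ⟶ kob f :=
  ((MonoLocus.comp_eq_one_iff f (1 : 𝟙_ (Over S) ⟶ P)).1 (MonObj.one_comp f)).choose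

theorem kone_kin (f : P ⟶ G) [IsMonHom f] : kone f ≫ kin f = 1 :=
  ((MonoLocus.comp_eq_one_iff f (1 : 𝟙_ (Over S) ⟶ P)).1 (MonObj.one_comp f)).choose_spec

theorem mono_kin (f : P ⟶ G) : Mono (kin f) := by
  haveI : IsSplitMono (η[G] : 𝟙_ (Over S) ⟶ G).left := IsSplitMono.mk' ⟨G.hom, Over.w _⟩
  haveI : Mono (kin f).left :=
    inferInstanceAs (Mono (pullback.fst f.left (η[G] : 𝟙_ (Over S) ⟶ G).left))
  exact Over.mono_of_mono_left _

theorem lft_kob (f : P ⟶ G) [LocallyOfFiniteType P.hom] : LocallyOfFiniteType (kob f).hom := by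
  haveI : LocallyOfFiniteType ((η[G] : 𝟙_ (Over S) ⟶ G).left ≫ G.hom) := by
    rw [Over.w]
    exact inferInstanceAs (LocallyOfFiniteType (𝟙 S))
  haveI : LocallyOfFiniteType (η[G] : 𝟙_ (Over S) ⟶ G).left :=
    locallyOfFiniteType_of_comp _ G.hom
  exact inferInstanceAs (LocallyOfFiniteType (pullback.fst f.left (η[G] : 𝟙_ (Over S) ⟶ G).left ≫ P.hom))

variable [GrpObj T]

theorem lft_semiDir (hT : Red.IsTorus T) {jT : T ⟶ P} {jU : Red.Ga S ⟶ P} (hiso : IsIso ((jT ⊗ₘ jU) ≫ μ[P])) :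
    LocallyOfFiniteType P.hom := by
  haveI := hiso
  haveI := MaxTorConj.smooth_of_isTorus hT
  haveI := BigCell.smooth_Ga S
  let m := (jT ⊗ₘ jU) ≫ μ[P]
  haveI : IsIso (inv m).left := ((Over.forget S).mapIso (asIso (inv m))).isIso_hom
  haveI : LocallyOfFiniteType (T ⊗ Red.Ga S).hom :=
    inferInstanceAs (LocallyOfFiniteType (pullback.fst T.hom (Red.Ga S).hom ≫ T.hom))
  rw [← Over.w (inv m)]
  infer_instance

section Fibre

variable {L : Type u} [Field L] [IsAlgClosed L] (g : Spec (CommRingCat.of L) ⟶ S)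

local notation "SL" => Spec (CommRingCat.of L)

theorem bcEquiv_comp {A B : Over S} (h : A ⟶ B) {Y : Over SL} (y : (Over.map g).obj Y ⟶ A) :
    bcEquiv g B Y (y ≫ h) = bcEquiv g A Y y ≫ (Over.pullback g).map h :=
  (Over.mapPullbackAdj g).homEquiv_naturality_right _ _

theorem symm_comp {A B : Over S} (h : A ⟶ B) {Y : Over SL} (y : Y ⟶ Red.bc g A) :
    (bcEquiv g B Y).symm (y ≫ (Over.pullback g).map h) = (bcEquiv g A Y).symm y ≫ h :=
  (Over.mapPullbackAdj g).homEquiv_naturality_right_symm _ _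

theorem bcEquiv_one (A : Over S) [GrpObj A] (Y : Over SL) : bcEquiv g A Y 1 = 1 := by
  have h := bcEquiv_mul g A Y 1 1
  rw [_root_.mul_one] at h
  exact left_eq_mul.1 h

variable (f : P ⟶ G) [IsMonHom f]

theorem ker_mem {Y : Over SL} (p : Y ⟶ Red.bc g P) :
    (∃ y : Y ⟶ Red.bc g (kob f), y ≫ (Over.pullback g).map (kin f) = p) ↔ p ≫ (Over.pullback g).map f = 1 := by
  obtain ⟨q, rfl⟩ := (bcEquiv g P Y).surjective p
  rw [← bcEquiv_comp, ← bcEquiv_one g G Y, (bcEquiv g G Y).injective.eq_iff, MonoLocus.comp_eq_one_iff]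
  constructor
  · rintro ⟨y, hy⟩
    refine ⟨(bcEquiv g (kob f) Y).symm y, (bcEquiv g P Y).injective ?_⟩
    rw [bcEquiv_comp, Equiv.apply_symm_apply, hy]
  · rintro ⟨y, rfl⟩
    exact ⟨bcEquiv g (kob f) Y y, (bcEquiv_comp g _ _).symm⟩

theorem unramified_fibre [LocallyOfFiniteType P.hom]
    (hg : (kone f).left (g (IsLocalRing.closedPoint L)) ∈ RichLib.UnrLocus.locus (kob f).hom) :
    FormallyUnramified (Red.bc g (kob f)).hom := by
  haveI := lft_kob f
  haveI := mono_kin f
  let N := Red.bc g (kob f)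
  let n : N ⟶ Red.bc g P := (Over.pullback g).map (kin f)
  haveI : Mono n := inferInstanceAs (Mono ((Over.pullback g).map (kin f)))
  let v : Red.bc g P ⟶ Red.bc g G := (Over.pullback g).map f
  haveI : IsMonHom v := DiagRep.isMonHom_bc_map g f
  haveI : LocallyOfFiniteType N.hom := inferInstanceAs (LocallyOfFiniteType (pullback.snd (kob f).hom g))
  haveI : JacobsonSpace N.left := LocallyOfFiniteType.jacobsonSpace N.hom
  -- translations
  have hτ : ∀ p : 𝟙_ (Over SL) ⟶ Red.bc g P, p ≫ v = 1 → ∃ τ : N ⟶ N, τ ≫ n = n * (toUnit N ≫ p) := fun p hp =>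
    (ker_mem g f _).2 (by
      rw [MonObj.mul_comp, Category.assoc, hp, MonObj.comp_one, _root_.mul_one]
      exact (ker_mem g f _).1 ⟨𝟙 N, Category.id_comp _⟩)
  let eL : 𝟙_ (Over SL) ⟶ N := bcEquiv g (kob f) _ (toUnit _ ≫ kone f)
  have heL : eL ≫ n = 1 := by
    show bcEquiv g _ _ _ ≫ (Over.pullback g).map (kin f) = 1
    rw [← bcEquiv_comp, Category.assoc, kone_kin, MonObj.comp_one, bcEquiv_one]
  have he : eL.left (IsLocalRing.closedPoint L) ∈ RichLib.UnrLocus.locus N.hom := by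
    refine (AlgSpLib.mem_locus_baseChange_iff (IsPullback.of_hasPullback (kob f).hom g) _).2 ?_
    have e1 : eL.left ≫ pullback.fst (kob f).hom g =
        ((bcEquiv g (kob f) (𝟙_ (Over SL))).symm eL).left := by
      simp [Over.mapPullbackAdj, Adjunction.homEquiv_counit]
    have e2 : (toUnit ((Over.map g).obj (𝟙_ (Over SL)))).left = g := by
      have : (toUnit ((Over.map g).obj (𝟙_ (Over SL)))).left ≫ 𝟙 S = 𝟙 _ ≫ g := Over.w (toUnit _)
      exact (Category.comp_id _).symm.trans (this.trans (Category.id_comp g))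
    show (eL.left ≫ pullback.fst (kob f).hom g) _ ∈ _
    rw [e1, Equiv.symm_apply_apply, Over.comp_left, e2]
    exact hg
  refine (RichLib.UnrLocus.locus_eq_univ_iff _).1 ?_
  by_contra hne
  have hcl : IsClosed (RichLib.UnrLocus.locus N.hom)ᶜ := (RichLib.UnrLocus.isOpen_locus _).isClosed_compl
  obtain ⟨x, hx, hxc⟩ := nonempty_inter_closedPoints (Set.nonempty_compl.2 hne) hcl.isLocallyClosed
  refine hx ?_
  let m : 𝟙_ (Over SL) ⟶ N := Over.homMk (pointOfClosedPoint N.hom x hxc) (pointOfClosedPoint_comp _ _ _)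
  have hm : (m ≫ n) ≫ v = 1 := (ker_mem g f _).1 ⟨m, rfl⟩
  obtain ⟨τ, hτ1⟩ := hτ (m ≫ n) hm
  obtain ⟨τ', hτ2⟩ := hτ (m ≫ n)⁻¹ (by rw [GrpObj.inv_comp, hm, inv_one])
  have i1 : τ ≫ τ' = 𝟙 N := by
    rw [← cancel_mono n, Category.assoc, hτ2, MonObj.comp_mul, hτ1, comp_toUnit_assoc,
      GrpObj.comp_inv, mul_inv_cancel_right, Category.id_comp]
  have i2 : τ' ≫ τ = 𝟙 N := by
    rw [← cancel_mono n, Category.assoc, hτ1, MonObj.comp_mul, hτ2, comp_toUnit_assoc,
      GrpObj.comp_inv, inv_mul_cancel_right, Category.id_comp]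
  haveI : IsIso τ := ⟨τ', i1, i2⟩
  haveI : IsIso τ.left := ((Over.forget SL).mapIso (asIso τ)).isIso_hom
  have hem : eL ≫ τ = m := by
    rw [← cancel_mono n, Category.assoc, hτ1, MonObj.comp_mul, heL, _root_.one_mul, ← Category.assoc,
      toUnit_unique (eL ≫ toUnit N) (𝟙 _), Category.id_comp]
  have h3 := (RichLib.UnrLocus.mem_locus_comp_left_iff τ.left N.hom (eL.left (IsLocalRing.closedPoint L))).1 (by
    rw [Over.w τ]; exact he)
  have hxe : m.left (IsLocalRing.closedPoint L) = x := pointOfClosedPoint_apply _ _ _ _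
  rw [← hxe, ← hem]
  exact h3

/-- The geometric kernel is trivial. -/
theorem ktriv_geom (hT : Red.IsTorus T) (α : T ⟶ Red.Gm S) [IsMonHom α]
    (hα : (Over.pullback g).map α ≠ 1)
    (jT : T ⟶ P) [IsMonHom jT] (jU : Red.Ga S ⟶ P) [IsMonHom jU] (hiso : IsIso ((jT ⊗ₘ jU) ≫ μ[P]))
    (hconj : ∀ (X : Over S) (t : X ⟶ T) (x x' : X ⟶ Red.Ga S), Red.gaFn x' = Red.gmFn (t ≫ α) * Red.gaFn x →
      (t ≫ jT) * (x ≫ jU) * (t ≫ jT)⁻¹ = x' ≫ jU) [Mono (jT ≫ f)]
    (hg : (kone f).left (g (IsLocalRing.closedPoint L)) ∈ RichLib.UnrLocus.locus (kob f).hom) :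
    MonoLocus.KTriv f g := by
  haveI := hiso
  haveI := lft_semiDir hT hiso
  haveI := lft_kob f
  haveI := mono_kin f
  let N := Red.bc g (kob f)
  let n : N ⟶ Red.bc g P := (Over.pullback g).map (kin f)
  let v : Red.bc g P ⟶ Red.bc g G := (Over.pullback g).map f
  haveI : IsMonHom v := DiagRep.isMonHom_bc_map g f
  haveI : IsMonHom ((Over.pullback g).map jT : Red.bc g T ⟶ Red.bc g P) := DiagRep.isMonHom_bc_map g jT
  haveI : IsMonHom ((Over.pullback g).map jU : Red.bc g (Red.Ga S) ⟶ Red.bc g P) := DiagRep.isMonHom_bc_map g jU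
  haveI : LocallyOfFiniteType N.hom := inferInstanceAs (LocallyOfFiniteType (pullback.snd (kob f).hom g))
  haveI : FormallyUnramified N.hom := unramified_fibre g f hg
  haveI : DiscreteTopology N.left :=
    ((UnrStalkLib.formallyUnramified_field_iff (p := N.hom)).1 inferInstance).2
  have hst : ∀ (Y : Over SL) (p : Y ⟶ Red.bc g P) (h : Y ⟶ N), ∃ h' : Y ⟶ N, p * (h ≫ n) * p⁻¹ = h' ≫ n := by
    intro Y p h
    have h1 : (h ≫ n) ≫ v = 1 := (ker_mem g f _).1 ⟨h, rfl⟩
    obtain ⟨h', hh'⟩ := (ker_mem g f (p * (h ≫ n) * p⁻¹)).2 (by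
      rw [MonObj.mul_comp, MonObj.mul_comp, h1, _root_.mul_one, GrpObj.inv_comp, mul_inv_cancel])
    exact ⟨h', hh'.symm⟩
  haveI hTs : Smooth T.hom := MaxTorConj.smooth_of_isTorus hT
  haveI : Smooth (Red.bc g T).hom := inferInstanceAs (Smooth (pullback.snd T.hom g))
  haveI : ConnectedSpace (Red.bc g T).left :=
    (AlbLib.smooth_connected_of_isTorus (RedRank.isTorus_bc hT g)).2
  haveI : ConnectedSpace (Red.bc g (Red.Ga S)).left := by
    obtain ⟨e, -⟩ := BigCell.exists_bcGa g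
    haveI := BigCell.connectedSpace_Ga L
    haveI : IsIso e.inv.left := ((Over.forget SL).mapIso e.symm).isIso_hom
    exact e.inv.left.surjective.connectedSpace e.inv.left.continuous
  let X₀ := (Over.map g).obj (𝟙_ (Over SL))
  -- rational points
  have key : ∀ m : 𝟙_ (Over SL) ⟶ N, m ≫ n = 1 := by
    intro m
    obtain ⟨p, hp⟩ := (bcEquiv g P (𝟙_ (Over SL))).surjective (m ≫ n)
    rw [← hp, ← bcEquiv_one g P]
    refine congrArg _ ?_
    have hcP : ∀ a : X₀ ⟶ Red.Ga S, (a ≫ jU) * p * (a ≫ jU)⁻¹ = p := fun a => by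
      refine (bcEquiv g P (𝟙_ (Over SL))).injective ?_
      refine Eq.trans ?_ ((conj_pt_eq n hst ((Over.pullback g).map jU) m (bcEquiv g _ _ a)).trans hp.symm)
      rw [bcEquiv_mul, bcEquiv_mul, bcEquiv_comp, hp]
      congr 1
      refine eq_inv_of_mul_eq_one_left ?_
      rw [← bcEquiv_comp, ← bcEquiv_mul, inv_mul_cancel, bcEquiv_one]
    have hcT : ∀ a : X₀ ⟶ T, (a ≫ jT) * p * (a ≫ jT)⁻¹ = p := fun a => by
      refine (bcEquiv g P (𝟙_ (Over SL))).injective ?_
      refine Eq.trans ?_ ((conj_pt_eq n hst ((Over.pullback g).map jT) m (bcEquiv g _ _ a)).trans hp.symm)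
      rw [bcEquiv_mul, bcEquiv_mul, bcEquiv_comp, hp]
      congr 1
      refine eq_inv_of_mul_eq_one_left ?_
      rw [← bcEquiv_comp, ← bcEquiv_mul, inv_mul_cancel, bcEquiv_one]
    have hpf : p ≫ f = 1 := by
      refine (bcEquiv g G (𝟙_ (Over SL))).injective ?_
      rw [bcEquiv_comp, hp, bcEquiv_one]
      exact (ker_mem g f _).1 ⟨m, rfl⟩
    have hV : ∀ (t : X₀ ⟶ T) (c : Γ(X₀.left, ⊤)),
        (t ≫ jT) * rt jU c * (t ≫ jT)⁻¹ = rt jU ((av' α t : Γ(X₀.left, ⊤)) * c) := fun t c =>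
      hconj X₀ t _ _ (by rw [gaFn_ptOf, gaFn_ptOf]; rfl)
    have hinj : ∀ c c' : Γ(X₀.left, ⊤), rt jU c = rt jU c' → c = c' := fun c c' h => by
      have h1 : lift (1 : X₀ ⟶ T) (ptOf c) ≫ (jT ⊗ₘ jU) ≫ μ[P] = lift 1 (ptOf c') ≫ (jT ⊗ₘ jU) ≫ μ[P] := by
        rw [lift_map_assoc, lift_map_assoc, ← Hom.mul_def, ← Hom.mul_def]
        exact congrArg _ h
      have h2 := congrArg (fun w => Red.gaFn (w ≫ snd T (Red.Ga S))) ((cancel_mono _).1 h1)
      simpa only [lift_snd, gaFn_ptOf] using h2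
    let q := p ≫ inv ((jT ⊗ₘ jU) ≫ μ[P])
    let t := q ≫ fst _ _
    let x := Red.gaFn (q ≫ snd _ _)
    have hp' : p = (t ≫ jT) * rt jU x := by
      have e : q = lift t (q ≫ snd _ _) := by ext <;> simp [t]
      rw [← BigCell.rt_eq jU (q ≫ snd _ _) rfl, Hom.mul_def, ← lift_map_assoc, ← e]
      simp [q]
    have h1 : (av' α t : Γ(X₀.left, ⊤)) = 1 := by
      have e := hcP (ptOf 1)
      rw [hp', mul_inv_eq_iff_eq_mul] at e
      refine hinj _ _ ?_
      rw [← _root_.mul_one (av' α t : Γ(X₀.left, ⊤)), ← hV, mul_inv_eq_iff_eq_mul]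
      refine mul_right_cancel (b := rt jU x) ?_
      rw [_root_.mul_assoc _ (rt jU 1), ← BigCell.rt_add, add_comm, BigCell.rt_add, ← _root_.mul_assoc,
        _root_.mul_assoc (rt jU 1) (t ≫ jT)]
      exact e.symm
    have h2 : x = 0 := by
      by_contra hx
      refine hα ?_
      haveI : GeometricallyReduced (Red.bc g T).hom := AbSchLib.geometricallyReduced_of_smooth _
      haveI : IsAffineHom (Red.Gm S).hom := MultEq.isAffineHom_DS _ _
      haveI : IsSeparated (Red.bc g (Red.Gm S)).hom :=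
        inferInstanceAs (IsSeparated (pullback.snd (Red.Gm S).hom g))
      refine BorelFix.hom_ext_pts (X := Red.bc g T) (Y := Red.bc g (Red.Gm S)) _ _ fun s => ?_
      obtain ⟨a, rfl⟩ := (bcEquiv g T (𝟙_ (Over SL))).surjective s
      rw [MonObj.comp_one, ← bcEquiv_comp, ← bcEquiv_one g (Red.Gm S)]
      refine congrArg _ ?_
      refine (GmPts.equiv _).injective ?_
      rw [map_one]
      show GmPts.unitOfPt (a ≫ α) = 1
      have e := hcT a
      have hts : (a ≫ jT) * (t ≫ jT) = (t ≫ jT) * (a ≫ jT) := by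
        rw [← MonObj.mul_comp, ← MonObj.mul_comp, BigCell.torus_comm hT]
      rw [hp', show (a ≫ jT) * ((t ≫ jT) * rt jU x) * (a ≫ jT)⁻¹ =
        ((a ≫ jT) * (t ≫ jT)) * rt jU x * (a ≫ jT)⁻¹ by group, hts,
        show (t ≫ jT) * (a ≫ jT) * rt jU x * (a ≫ jT)⁻¹ = (t ≫ jT) * ((a ≫ jT) * rt jU x * (a ≫ jT)⁻¹) by group,
        hV, mul_right_inj] at e
      have hu : IsUnit x := by
        let eK : Γ(X₀.left, ⊤) ≃+* L := (Scheme.ΓSpecIso (CommRingCat.of L)).commRingCatIsoToRingEquiv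
        rw [← eK.symm_apply_apply x]
        exact (IsUnit.mk0 _ fun h => hx (eK.injective (h.trans (map_zero eK).symm))).map eK.symm
      exact Units.ext (hu.mul_eq_right.1 (hinj _ _ e))
    rw [h2, BigCell.rt_zero, _root_.mul_one] at hp'
    have ht : t = 1 := by
      rw [← cancel_mono (jT ≫ f), ← Category.assoc, ← hp', hpf, MonObj.one_comp]
    rw [hp', ht, MonObj.one_comp]
  -- hence the kernel is trivial
  obtain ⟨eL, heL⟩ := (ker_mem g f (1 : 𝟙_ (Over SL) ⟶ Red.bc g P)).2 (MonObj.one_comp _)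
  haveI : Mono n := inferInstanceAs (Mono ((Over.pullback g).map (kin f)))
  haveI := isIso_hom eL fun m => by rw [← cancel_mono n, key, heL]
  rw [MonoLocus.ktriv_iff]
  intro Y q hq h he
  let Y' : Over SL := Over.mk q
  let ε : (Over.map g).obj Y' ⟶ Y := Over.homMk (𝟙 Y.left) (by
    show 𝟙 Y.left ≫ Y.hom = q ≫ g
    rw [Category.id_comp, hq])
  haveI : IsIso ((Over.forget S).map ε) := inferInstanceAs (IsIso (𝟙 Y.left))
  haveI : IsIso ε := isIso_of_reflects_iso ε (Over.forget S)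
  rw [← cancel_epi ε, MonObj.comp_one]
  refine (bcEquiv g P Y').injective ?_
  rw [bcEquiv_one]
  obtain ⟨y, hy⟩ := (ker_mem g f (bcEquiv g P Y' (ε ≫ h))).2 (by
    rw [← bcEquiv_comp, Category.assoc, he, MonObj.comp_one, bcEquiv_one])
  have hyy : y = toUnit Y' ≫ eL := Over.OverMorphism.ext (by
    rw [← cancel_mono N.hom, Over.w y, Over.w])
  rw [← hy, hyy, Category.assoc, heL, MonObj.comp_one]

end Fibre

variable (f : P ⟶ G) [IsMonHom f]

/-- A trivial fibre of the kernel is unramified at the unit. -/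
theorem mem_locus_of_ktriv [LocallyOfFiniteType P.hom] {L : Type u} [Field L] (κ : Spec (CommRingCat.of L) ⟶ S)
    (h : MonoLocus.KTriv f κ) : (kone f).left (κ (IsLocalRing.closedPoint L)) ∈ RichLib.UnrLocus.locus (kob f).hom := by
  haveI := lft_kob f
  haveI := mono_kin f
  haveI : Mono (pullback.snd (kob f).hom κ) := ⟨fun {Z} a b hab => by
    refine pullback.hom_ext ?_ hab
    let Y : Over S := Over.mk (a ≫ pullback.snd (kob f).hom κ ≫ κ)
    let y : Y ⟶ kob f := Over.homMk (a ≫ pullback.fst _ _) (by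
      show (a ≫ pullback.fst _ _) ≫ _ = a ≫ pullback.snd _ _ ≫ κ
      rw [Category.assoc, pullback.condition])
    let y' : Y ⟶ kob f := Over.homMk (b ≫ pullback.fst _ _) (by
      show (b ≫ pullback.fst _ _) ≫ _ = a ≫ pullback.snd _ _ ≫ κ
      rw [Category.assoc, pullback.condition, reassoc_of% hab])
    have e : y = y' := by
      rw [← cancel_mono (kin f), h Y (a ≫ pullback.snd _ _) (Category.assoc _ _ _) y,
        h Y (a ≫ pullback.snd _ _) (Category.assoc _ _ _) y']
    exact congrArg CommaMorphism.left e⟩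
  haveI : FormallyUnramified (pullback.snd (kob f).hom κ) := MonoFib.formallyUnramified_of_mono _
  let z : Spec (CommRingCat.of L) ⟶ pullback (kob f).hom κ := pullback.lift (κ ≫ (kone f).left) (𝟙 _) (by
    rw [Category.assoc, Over.w, Category.id_comp]
    exact Category.comp_id κ)
  have h1 := RichLib.UnrLocus.mem_locus_of_isPullback (IsPullback.of_hasPullback (kob f).hom κ)
    (z.base (IsLocalRing.closedPoint L))
  rw [show (pullback.fst (kob f).hom κ).base (z.base (IsLocalRing.closedPoint L)) =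
    (z ≫ pullback.fst (kob f).hom κ) (IsLocalRing.closedPoint L) from rfl, pullback.lift_fst] at h1
  exact h1

/-- A field point over which an extension has trivial kernel. -/
theorem ktriv_of_ext {L K : Type u} [Field L] [Field K] (σ : CommRingCat.of L ⟶ CommRingCat.of K)
    (κ : Spec (CommRingCat.of L) ⟶ S) (h : MonoLocus.KTriv f (Spec.map σ ≫ κ)) : MonoLocus.KTriv f κ := by
  rw [MonoLocus.ktriv_iff] at h ⊢
  intro Y q hq p hp
  haveI : Flat (Spec.map σ) := GrpField.flat_field _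
  haveI : Surjective (Spec.map σ) := ⟨fun y => ⟨IsLocalRing.closedPoint K, @Subsingleton.elim (PrimeSpectrum L) _ _ _⟩⟩
  let Y' : Over S := Over.mk (pullback.fst q (Spec.map σ) ≫ Y.hom)
  let π : Y' ⟶ Y := Over.homMk (pullback.fst q (Spec.map σ)) rfl
  haveI : Flat π.left := inferInstanceAs (Flat (pullback.fst q (Spec.map σ)))
  haveI : Surjective π.left := inferInstanceAs (Surjective (pullback.fst q (Spec.map σ)))
  haveI := BigCell.epi_of_flat π
  rw [← cancel_epi π, MonObj.comp_one]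
  refine h Y' (pullback.snd q (Spec.map σ)) ?_ (π ≫ p) (by rw [Category.assoc, hp, MonObj.comp_one])
  show pullback.snd q (Spec.map σ) ≫ Spec.map σ ≫ κ = pullback.fst q (Spec.map σ) ≫ Y.hom
  rw [← pullback.condition_assoc, hq]

/-- The kernel is trivial over an open where all its fibres are. -/
theorem ktriv_open [LocallyOfFiniteType P.hom] (U : S.Opens)
    (h : ∀ s ∈ U, MonoLocus.KTriv f (S.fromSpecResidueField s)) : MonoLocus.KTriv f U.ι := by
  haveI := lft_kob f
  haveI := mono_kin f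
  let π : pullback (kob f).hom U.ι ⟶ (U : Scheme.{u}) := pullback.snd _ _
  haveI : LocallyOfFiniteType π := inferInstanceAs (LocallyOfFiniteType (pullback.snd (kob f).hom U.ι))
  haveI : Mono π := MonoFib.mono_of_mono_fibres π fun u => ⟨fun {Z} a b hab => by
    let ρ := (U : Scheme.{u}).fromSpecResidueField u
    revert hab
    revert a b
    intro (a : Z ⟶ pullback π ρ) (b : Z ⟶ pullback π ρ) hab
    have hρ : ∃ σ : Spec ((U : Scheme.{u}).residueField u) ⟶ Spec (S.residueField (U.ι u)),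
        σ ≫ S.fromSpecResidueField (U.ι u) = ρ ≫ U.ι :=
      ⟨Spec.map (U.ι.residueFieldMap u), Scheme.Hom.SpecMap_residueFieldMap_fromSpecResidueField U.ι u⟩
    obtain ⟨σ, hσ⟩ := hρ
    have hab' : a ≫ pullback.snd π ρ = b ≫ pullback.snd π ρ := hab
    have hc : ∀ c : Z ⟶ pullback π ρ, ((c ≫ pullback.fst π ρ) ≫ pullback.fst (kob f).hom U.ι) ≫ (kob f).hom =
        (c ≫ pullback.snd π ρ) ≫ σ ≫ S.fromSpecResidueField (U.ι u) := fun c => by
      rw [hσ, Category.assoc, Category.assoc, pullback.condition, Category.assoc]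
      congr 1
      exact pullback.condition_assoc _
    let Y : Over S := Over.mk ((a ≫ pullback.snd π ρ) ≫ σ ≫ S.fromSpecResidueField (U.ι u))
    let y : Y ⟶ kob f := Over.homMk ((a ≫ pullback.fst π ρ) ≫ pullback.fst (kob f).hom U.ι) (hc a)
    let y' : Y ⟶ kob f := Over.homMk ((b ≫ pullback.fst π ρ) ≫ pullback.fst (kob f).hom U.ι)
      ((hc b).trans (congrArg (· ≫ σ ≫ S.fromSpecResidueField (U.ι u)) hab'.symm))
    have hY : ((a ≫ pullback.snd π ρ) ≫ σ) ≫ S.fromSpecResidueField (U.ι u) = Y.hom := Category.assoc _ _ _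
    have e : y = y' := by
      rw [← cancel_mono (kin f), h _ u.2 Y _ hY y, h _ u.2 Y _ hY y']
    refine pullback.hom_ext ?_ hab'
    refine pullback.hom_ext (congrArg CommaMorphism.left e) ?_
    show (a ≫ pullback.fst π ρ) ≫ π = (b ≫ pullback.fst π ρ) ≫ π
    rw [Category.assoc, Category.assoc, pullback.condition, reassoc_of% hab']⟩
  intro Y q hq y
  let c : Y.left ⟶ pullback (kob f).hom U.ι := pullback.lift y.left q (by rw [Over.w, hq])
  let c' : Y.left ⟶ pullback (kob f).hom U.ι := pullback.lift (toUnit Y ≫ kone f).left q (by rw [Over.w, hq])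
  have e : c = c' := by rw [← cancel_mono π, pullback.lift_snd, pullback.lift_snd]
  have e' : y = toUnit Y ≫ kone f := Over.OverMorphism.ext (by
    have := congrArg (· ≫ pullback.fst _ _) e
    simpa only [c, c', pullback.lift_fst] using this)
  rw [e', Category.assoc, kone_kin, MonObj.comp_one]

end Groth.Agent.SemiDirKer
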